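import Cfsg.Agent.Lib.GW.GWL2a
import Cfsg.Agent.Lib.Lin.PSL2Four
import Cfsg.Agent.Lib.Lin.SL2Class
import Cfsg.Agent.Lib.Lin.SLnCard

/-! Automorphisms of `L₂(q)` of `r`-power order centralizing a Sylow `r`-subgroup. -/

set_option autoImplicit false
set_option linter.unusedSectionVars false

namespace CA.InnL2

open Subgroup CA.BG CA.GW Matrix CA.Mat2 CA.SL2Basic CA.SL2Torus CA.SL2Unip CA.PSL2Struct CA.GWL2a CA.AutGam
  CA.SL2Embed CA.SL2Class
open scoped MatrixGroups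

abbrev Inn (G : Type*) [Group G] : Subgroup (MulAut G) := (MulAut.conj : G →* MulAut G).range

theorem red {G : Type*} [Group G] [Finite G] {r : ℕ} [Fact r.Prime] (R S : Sylow r G) {α : MulAut G}
    (hR : ∀ x ∈ (R : Subgroup G), α x = x)
    (h : ∀ β : MulAut G, orderOf β = orderOf α → (∀ x ∈ (S : Subgroup G), β x = x) → β ∈ Inn G) : α ∈ Inn G := by
  obtain ⟨g, rfl⟩ := MulAction.exists_smul_eq G R S
  have := h (MulAut.conj g * α * (MulAut.conj g)⁻¹) (orderOf_conj _ _) (by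
    rintro _ ⟨x, hx, rfl⟩
    simp [mul_assoc, hR x hx])
  have hg : MulAut.conj g ∈ Inn G := ⟨g, rfl⟩
  rwa [mul_mem_cancel_right (inv_mem hg), mul_mem_cancel_left hg] at this

variable {F : Type} [Field F] [Finite F] {α β : MulAut PSL(2, F)} {m n : GL (Fin 2) F} {σ τ : RingAut F}

def A (α : MulAut PSL(2, F)) (m : GL (Fin 2) F) (σ : RingAut F) : Prop := ∀ s, α (pr F s) = pr F (al m σ s)

theorem exists_A (α : MulAut PSL(2, F)) : ∃ m σ, A α m σ := by
  obtain ⟨⟨m, σ, ε⟩, e1, e2⟩ := CA.AutPSL.exists_Ph le_rfl α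
  obtain rfl : ε = 1 := e2 rfl
  exact ⟨m, σ, fun s => (CA.AutPSL.semilinear_iff m σ α).2 e1 s _ (al_coe m σ s)⟩

theorem A.mul (h : A α m σ) (h' : A β n τ) : A (α * β) (m * fldGL σ n) (σ * τ) := fun s => by
  rw [MulAut.mul_apply, h', h, al_al]

theorem A.pow (h : A α m σ) (k : ℕ) : ∃ n, A (α ^ k) n (σ ^ k) := by
  induction k with
  | zero => exact ⟨1, fun s => by simp [al_one_one]⟩
  | succ k ih => exact let ⟨_, h1⟩ := ih; ⟨_, by rw [pow_succ, pow_succ]; exact h1.mul h⟩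

theorem A.one (h : A 1 m σ) : σ = 1 := by
  have k : ∀ x : F, σ x = x ∨ σ x = -x := fun x => by
    have h1 := trace_al m σ (mk2 x (-1) 1 0 (by simp))
    rcases pr_eq_iff.1 (h (mk2 x (-1) 1 0 (by simp))).symm with e | e <;> rw [e] at h1
    · exact .inl (by simpa [trace_mk2] using h1.symm)
    · exact .inr (by simpa [trace_neg', trace_mk2] using h1.symm)
  ext x
  have h1 := k (x + 1)
  rw [map_add, map_one] at h1
  rcases k x with e | e
  · exact e
  rcases h1 with e1 | e1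
  · exact add_right_cancel e1
  · show σ x = x
    linear_combination e - x * (e1 - e)

theorem A.ord (h : A α m σ) : orderOf σ ∣ orderOf α :=
  let ⟨_, h1⟩ := h.pow (orderOf α)
  orderOf_dvd_of_pow_eq_one (A.one (pow_orderOf_eq_one α ▸ h1))

theorem A.inn (h : A α m 1) (hs : IsSquare m.val.det) : α ∈ Inn PSL(2, F) := by
  obtain ⟨d, hd⟩ := hs
  have d0 : d ≠ 0 := fun e => m.det_ne_zero (by simp [hd, e])
  let k : SL(2, F) := ⟨d⁻¹ • m.val, by rw [det_smul, hd]; simp; field_simp⟩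
  refine ⟨pr F k, MulEquiv.ext fun x => ?_⟩
  obtain ⟨s, rfl⟩ := pr_surj x
  rw [h, ← al_smul (m' := SpecialLinearGroup.toGL k) (c := d⁻¹) rfl, al_toGL]
  simp

theorem inn_char (h : ∀ x ∈ Ub F, α x = x) : α ∈ Inn PSL(2, F) := by
  obtain ⟨m, σ, h1⟩ := exists_A α
  have k : ∀ b : F, m.val * (u b).1.map σ = (u b).1 * m.val := fun b => al_eq_iff.1 (by
    rcases pr_eq_iff.1 ((h1 _).symm.trans (h _ (mem_Ub.2 ⟨b, rfl⟩))) with e | e
    · exact e
    · have h2 := trace_al m σ (u b)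
      rw [e, trace_neg', trace_u, map_ofNat] at h2
      by_cases h3 : (2 : F) = 0
      · rwa [neg_eq_self_of_two h3] at e
      · exact absurd (mul_left_cancel₀ h3 (by linear_combination -h2)) h3)
  have hd := m.det_ne_zero
  obtain ⟨a, b, c, d, e⟩ := ex4 m.val
  have k1 : ∀ x : F, x * c = 0 ∧ a * σ x = x * d := fun x => by
    have h2 := k x
    rw [e, u_coe] at h2
    have h3 := congrFun (congrFun h2 0) 0
    have h4 := congrFun (congrFun h2 0) 1
    simp [Matrix.mul_apply, Fin.sum_univ_two] at h3 h4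
    exact ⟨by simpa using h3, by linear_combination h4⟩
  obtain rfl : c = 0 := by simpa using (k1 1).1
  obtain rfl : a = d := by simpa using (k1 1).2
  rw [e, det_fin_two_of, mul_zero, sub_zero] at hd
  obtain rfl : σ = 1 := RingEquiv.ext fun x => mul_left_cancel₀ (left_ne_zero_of_mul hd) ((k1 x).2.trans (mul_comm _ _))
  exact h1.inn ⟨a, by rw [e, det_fin_two_of, mul_zero, sub_zero]⟩

theorem inn_four (h2 : (2 : F) ≠ 0) (h : A α m 1) {a b : PSL(2, F)} (f : PSL2Four.IsPair a b) (ha : α a = a)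
    (hb : α b = b) : α ∈ Inn PSL(2, F) := by
  obtain ⟨g, rfl⟩ := pr_surj a
  obtain ⟨k, rfl⟩ := pr_surj b
  have tg := trace_of_involution h2 f.a1 f.aa
  have tk := trace_of_involution h2 f.b1 f.bb
  have ng := (SS_of_trace_zero h2 tg).ns
  have e : g.1 * k.1 = -(k.1 * g.1) := by
    rcases pr_eq_iff.1 (show pr F (g * k) = pr F (k * g) by simpa using f.comm) with e | e
    · rcases (SS_of_trace_zero h2 tg).eq_or_inv (mem_C_iff.2 e.symm) (tg.trans tk.symm) with e1 | e1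
      · exact absurd (congrArg (pr F) e1.symm) f.ab
      · exact (f.ab (by rw [e1, map_inv, inv_eq_of_mul_eq_one_right f.aa])).elim
    · exact congrArg Subtype.val e
  have key : ∀ j : SL(2, F), m.val * j.1 * g.1 = g.1 * (m.val * j.1) → m.val * j.1 * k.1 = k.1 * (m.val * j.1) →
      α ∈ Inn PSL(2, F) := fun j h3 h4 => by
    obtain ⟨x, y, e1⟩ := (ng.comm_iff _).1 h3
    have h5 : y = 0 := by
      rw [e1, lin, add_mul, mul_add, smul_mul_assoc, smul_mul_assoc, mul_smul_comm, mul_smul_comm, one_mul, mul_one,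
        add_right_inj, e, smul_neg, neg_eq_iff_add_eq_zero, ← two_smul F, smul_smul, smul_eq_zero] at h4
      refine (mul_eq_zero.1 (h4.resolve_right fun e2 => ?_)).resolve_left h2
      simpa using congrArg det e2
    refine h.inn ⟨x, ?_⟩
    simpa [h5, lin_zero_right, sq] using congrArg det e1
  have sg : ∀ s : SL(2, F), α (pr F s) = pr F s → m.val * s.1 = s.1 * m.val ∨ m.val * s.1 = -(s.1 * m.val) :=
    fun s hs => (pr_eq_iff.1 ((h s).symm.trans hs)).imp (fun e => al_eq_iff.1 e) fun e => by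
      simpa using al_eq_iff.1 e
  have e' : k.1 * g.1 = -(g.1 * k.1) := by rw [e, neg_neg]
  rcases sg g ha with e1 | e1 <;> rcases sg k hb with e2 | e2
  · exact key 1 (by simpa using e1) (by simpa using e2)
  · exact key g (by rw [e1, mul_assoc, e1]) (by rw [mul_assoc, e, mul_neg, ← mul_assoc, e2]; simp [mul_assoc])
  · exact key k (by rw [mul_assoc, e', mul_neg, ← mul_assoc, e1]; simp [mul_assoc]) (by rw [e2, mul_assoc, e2])
  · refine key (g * k) ?_ ?_ <;> rw [show (g * k).1 = g.1 * k.1 from rfl]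
    · rw [mul_assoc, mul_assoc, e', mul_neg, mul_neg, ← mul_assoc, e1]; simp [mul_assoc]
    · rw [mul_assoc, e, neg_mul, mul_neg, mul_assoc, ← mul_assoc m.val, e2, e]; simp [mul_assoc]

theorem lte {r a x j : ℕ} (h0 : a ≠ 0) (hj : j ≠ 0) (hx : 0 < x) (h : r ^ a ∣ x - 1) : r ^ (a + 1) ∣ x ^ r ^ j - 1 := by
  obtain ⟨j, rfl⟩ := Nat.exists_eq_succ_of_ne_zero hj
  have h1 : r ^ a ∣ x ^ r ^ j - 1 := h.trans (Nat.sub_one_dvd_pow_sub_one x _)
  rw [Nat.succ_eq_add_one, pow_succ r j, pow_mul]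
  have h2 : 0 < x ^ r ^ j := by positivity
  generalize x ^ r ^ j = y at *
  rw [← Int.natCast_dvd_natCast, Nat.cast_sub (by first | exact h2 | exact Nat.one_le_pow _ _ h2)] at h1 ⊢
  push_cast at h1 ⊢
  rw [← mul_geom_sum, pow_succ]
  refine mul_dvd_mul h1 ?_
  have := (dvd_geom_sum₂_iff_of_dvd_sub' (n := r) ((dvd_pow_self (r : ℤ) h0).trans h1)).2 (dvd_mul_right _ _)
  simpa using this

theorem ord_dvd {K : Subfield F} {s : SL(2, F)} (h : SS s) (ht : s.1.trace ∈ K) :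
    orderOf s ∣ Nat.card K * (Nat.card K ^ 2 - 1) := by
  obtain ⟨c, hc⟩ := isConj_iff.1 (h.isConj (h := mk2 s.1.trace (-1) 1 0 (by simp)) (by simp [trace_mk2]))
  have e1 := orderOf_dvd_natCard (mk2 (⟨_, ht⟩ : K) (-1) 1 0 (by simp))
  rwa [← orderOf_injective _ (sl_map_injective K.subtype Subtype.val_injective), SLnCard.card_SL2,
    show SpecialLinearGroup.map K.subtype (mk2 (⟨_, ht⟩ : K) (-1) 1 0 (by simp)) = mk2 s.1.trace (-1) 1 0 (by simp) from
      sl_ext4 rfl rfl rfl rfl, ← hc, orderOf_conj] at e1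

theorem inn_odd {r k : ℕ} [hr : Fact r.Prime] (h2 : r ≠ 2) (hF : (r : F) ≠ 0) (hd : r ∣ Nat.card PSL(2, F))
    (ho : orderOf α = r ^ k) (R : Sylow r SL(2, F)) (hR : ∀ s ∈ (R : Subgroup SL(2, F)), α (pr F s) = pr F s) :
    α ∈ Inn PSL(2, F) := by
  obtain ⟨m, σ, h⟩ := exists_A α
  have od : ∀ k, Odd (r ^ k) := fun _ => (hr.out.odd_of_ne_two h2).pow
  suffices e : σ = 1 by
    subst e
    exact mem_of_sq_mem (ho ▸ od k) (A.inn (m := m * m) (fun s => by rw [h.mul h s, mul_one]; rfl)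
      ⟨m.val.det, by rw [Units.val_mul, det_mul]⟩)
  by_contra h1
  obtain ⟨j, -, hj⟩ := (Nat.dvd_prime_pow hr.out).1 (ho ▸ h.ord)
  have j0 : j ≠ 0 := fun e => h1 (orderOf_eq_one_iff.1 (by rw [hj, e, pow_zero]))
  have := isCyclic_of_isPGroup r h2 hF _ R.isPGroup'
  obtain ⟨⟨s, hs⟩, h3⟩ := IsCyclic.exists_ofOrder_eq_natCard (α := (R : Subgroup SL(2, F)))
  obtain ⟨a, ha⟩ := R.isPGroup'.exists_card_eq
  rw [ha, Subgroup.orderOf_mk] at h3
  have c1 : Nat.card SL(2, F) = Nat.card F * (Nat.card F ^ 2 - 1) := SLnCard.card_SL2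
  have h4 : ¬ r ^ (a + 1) ∣ Nat.card SL(2, F) := fun e => R.not_dvd_index (by
    rwa [← (R : Subgroup SL(2, F)).card_mul_index, ha, pow_succ, Nat.mul_dvd_mul_iff_left (od a).pos] at e)
  have a0 : a ≠ 0 := fun e => h4 (by rw [e, zero_add, pow_one, c1, ← card_PSL]; exact hd.mul_left _)
  have h5 : orderOf (s * s) = r ^ a := by
    rw [← sq, Nat.Coprime.orderOf_pow (h3 ▸ Nat.coprime_two_right.2 (od a)), h3]
  have h6 : al m σ (s * s) = s * s := by
    rcases pr_eq_iff.1 ((h s).symm.trans (hR s hs)) with e | e <;> simp [al_mul, e]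
  have h7 : SS (s * s) := SS_of_pow ((NS_iff_ne _).2 (by
    have e1 : ¬ (s * s) ^ 2 = 1 := fun e => (Nat.one_lt_pow a0 hr.out.one_lt).ne' (Nat.Coprime.eq_one_of_dvd
      (Nat.coprime_two_right.2 (od a)) (h5 ▸ orderOf_dvd_of_pow_eq_one e))
    constructor <;> intro e <;> simp [e] at e1)) (n := r ^ a) (by simpa using fun e => absurd e hF)
    (.inl (h5 ▸ pow_orderOf_eq_one _))
  have h8 : (s * s).1.trace ∈ AutFld.fixF σ := (trace_al m σ _).symm.trans (congrArg _ (congrArg _ h6))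
  have e1 := ord_dvd h7 h8
  rw [h5] at e1
  have e2 := AutFld.card_fixF_pow σ
  have e3 : ¬ r ∣ Nat.card (AutFld.fixF σ) := fun e => hF (by
    have := Fintype.ofFinite F
    obtain ⟨c, hc⟩ := e.trans (dvd_pow_self _ (orderOf_pos σ).ne')
    have h := FiniteField.cast_card_eq_zero F
    obtain ⟨p, _, n, hp, e4⟩ := FiniteField.card' F
    obtain rfl := (Nat.prime_dvd_prime_iff_eq hr.out hp).1 (hr.out.dvd_of_dvd_pow (n := n) (by
      rw [← e4, ← Nat.card_eq_fintype_card, ← e2, hc]; exact dvd_mul_right _ _))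
    exact CharP.cast_eq_zero F r)
  refine h4 (c1 ▸ Dvd.dvd.mul_left ?_ _)
  rw [← e2, hj, ← pow_mul, mul_comm, pow_mul]
  exact lte a0 j0 (pow_pos Nat.card_pos 2)
    ((((Nat.Prime.coprime_iff_not_dvd hr.out).2 e3).pow_left a).dvd_of_dvd_mul_left e1)

theorem inner (hq : (2 : F) = 0 ∨ Nat.card F % 8 = 3 ∨ Nat.card F % 8 = 5) {r k : ℕ} [hr : Fact r.Prime]
    (hd : r ∣ Nat.card PSL(2, F)) (ho : orderOf α = r ^ k) (R : Sylow r PSL(2, F))
    (hR : ∀ x ∈ (R : Subgroup PSL(2, F)), α x = x) : α ∈ Inn PSL(2, F) := by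
  by_cases hF : (r : F) = 0
  · have : CharP F r := (CharP.charP_iff_prime_eq_zero hr.out).2 hF
    exact red R (sylowUb F r) hR fun β _ h => inn_char h
  by_cases h2 : r = 2
  · subst h2
    have h8 := hq.resolve_left hF
    have := PSL2Four.isKleinFour_sylow h8 R
    obtain ⟨a, ha, b, hb, f⟩ := PSL2Four.exists_pair (R : Subgroup PSL(2, F))
    obtain ⟨m, σ, h⟩ := exists_A α
    obtain ⟨j, -, hj⟩ := (Nat.dvd_prime_pow hr.out).1 (ho ▸ h.ord)
    obtain rfl : σ = 1 := orderOf_eq_one_iff.1 (by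
      rcases j with _ | j
      · exact hj
      have e2 := AutFld.card_fixF_pow σ
      rw [hj, pow_succ, pow_mul] at e2
      generalize Nat.card (AutFld.fixF σ) ^ 2 ^ j = y at e2
      rw [← e2, Nat.pow_mod] at h8
      have : y % 8 < 8 := Nat.mod_lt _ (by norm_num)
      generalize y % 8 = z at *
      interval_cases z <;> simp at h8)
    exact inn_four hF h f (hR a ha) (hR b hb)
  obtain ⟨S⟩ : Nonempty (Sylow r SL(2, F)) := inferInstance
  exact red R (S.mapSurjective (f := pr F) pr_surj) hR fun β h1 h =>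
    inn_odd h2 hF hd (h1.trans ho) S fun s hs => h _ (mem_map_of_mem _ hs)

end CA.InnL2
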