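import Cfsg.Agent.Lib.Walt.H9J
import Cfsg.Agent.Lib.Cit.Ca
import Cfsg.Agent.Lib.Char.CharBurn
import Cfsg.Agent.S0813

/-! Involution centralizers `Z₂ × A_m`. -/

set_option autoImplicit false
set_option linter.unusedSectionVars false

namespace CA.H9K

open Subgroup Cfsg CA.BG CA.GW CA.J1 CA.H9J
open scoped commutatorElement

section
open Equiv Equiv.Perm
variable {α : Type*} [Fintype α] [DecidableEq α] {f σ ρ : Perm α} {a c x y : α}

/-- the even permutations commuting with `σ` -/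
def EC (σ : Perm α) : Subgroup (Perm α) := alternatingGroup α ⊓ centralizer {σ}

theorem conj_swap (f : Perm α) (x y : α) : f * swap x y * f⁻¹ = swap (f x) (f y) := (swap_apply_apply f x y).symm

theorem swap_fix (h : f x = x ∧ f y = y ∨ f x = y ∧ f y = x) : swap x y * f = f * swap x y := by
  rw [← mul_inv_eq_iff_eq_mul.1 (conj_swap f x y ▸ ?_ : f * swap x y * f⁻¹ = swap x y)]
  rcases h with ⟨h1, h2⟩ | ⟨h1, h2⟩ <;> rw [h1, h2]
  exact swap_comm _ _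

theorem block (h2 : σ * σ = 1) (h6 : 6 ≤ Fintype.card α) (ha : σ a ≠ a) (hc : σ c ≠ c) (h1 : c ≠ a)
    (h3 : c ≠ σ a) : swap c (σ c) * swap a (σ a) ∈ ⁅EC σ, EC σ⁆ := by
  have ss : ∀ x, σ (σ x) = x := fun x => by rw [← mul_apply, h2, one_apply]
  have h4 : σ c ≠ σ a := fun h => h1 (σ.injective h)
  have h5 : σ c ≠ a := fun h => h3 (by rw [← h, ss])
  let s : Finset α := {a, σ a, c, σ c}
  have hs : ∀ b, b ∉ s ↔ b ≠ a ∧ b ≠ σ a ∧ b ≠ c ∧ b ≠ σ c := fun b => by simp [s]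
  have hs' : ∀ b, b ∉ s → σ b ∉ s := fun b hb => by
    obtain ⟨k1, k2, k3, k4⟩ := (hs b).1 hb
    exact (hs _).2 ⟨fun h => k2 (by rw [← h, ss]), fun h => k1 (σ.injective h), fun h => k4 (by rw [← h, ss]),
      fun h => k3 (σ.injective h)⟩
  obtain ⟨b, b', hb, hb', hne, h⟩ : ∃ b b', b ∉ s ∧ b' ∉ s ∧ b ≠ b' ∧
      (σ b = b ∧ σ b' = b' ∨ σ b = b' ∧ σ b' = b) := by
    have : 1 < sᶜ.card := by
      have : s.card ≤ 4 := Finset.card_le_four
      rw [Finset.card_compl]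
      omega
    obtain ⟨b, hb, b', hb', hne⟩ := Finset.one_lt_card.1 this
    rw [Finset.mem_compl] at hb hb'
    by_cases k1 : σ b = b
    · by_cases k2 : σ b' = b'
      · exact ⟨b, b', hb, hb', hne, Or.inl ⟨k1, k2⟩⟩
      · exact ⟨b', σ b', hb', hs' _ hb', Ne.symm k2, Or.inr ⟨rfl, ss _⟩⟩
    · exact ⟨b, σ b, hb, hs' _ hb, Ne.symm k1, Or.inr ⟨rfl, ss _⟩⟩
  obtain ⟨k1, k2, k3, k4⟩ := (hs b).1 hb
  obtain ⟨l1, l2, l3, l4⟩ := (hs b').1 hb'
  have e1 : swap (σ a) (σ c) * swap a c = swap a c * swap (σ a) (σ c) :=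
    swap_fix (Or.inl ⟨swap_apply_of_ne_of_ne ha h3.symm, swap_apply_of_ne_of_ne h5 hc⟩)
  have hu : swap a c * swap (σ a) (σ c) ∈ EC σ := ⟨by simp [sign_swap h1.symm, sign_swap h4.symm], mem_cent1.2 <| by
    rw [eq_comm, ← mul_inv_eq_iff_eq_mul, ← conj_mul, conj_swap, conj_swap, ss, ss, e1]⟩
  have hv : swap a (σ a) * swap b b' ∈ EC σ := ⟨by simp [sign_swap ha.symm, sign_swap hne], mem_cent1.2 <| by
    rw [mul_assoc, swap_fix h, ← mul_assoc, swap_fix (Or.inr ⟨rfl, ss a⟩), mul_assoc]⟩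
  convert commutator_mem_commutator hu hv using 1
  rw [commutatorElement_def, ← conj_mul, conj_swap, conj_swap]
  simp only [mul_apply, swap_apply_left, swap_apply_of_ne_of_ne ha.symm h5.symm, swap_apply_of_ne_of_ne h5 hc,
    swap_apply_of_ne_of_ne k2 k4, swap_apply_of_ne_of_ne k1 k3, swap_apply_of_ne_of_ne l2 l4,
    swap_apply_of_ne_of_ne l1 l3, mul_inv_rev, swap_inv]
  rw [mul_assoc, ← mul_assoc (swap b b'), swap_mul_self, one_mul]

theorem step (h2 : σ * σ = 1) (h : ∀ x, ρ x = x ∨ ρ x = σ x) (ha : ρ a ≠ a) :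
    ρ a = σ a ∧ ρ (σ a) = a ∧ ∀ x, (swap a (σ a) * ρ) x = x ∨ (swap a (σ a) * ρ) x = σ x := by
  have ss : ∀ x, σ (σ x) = x := fun x => by rw [← mul_apply, h2, one_apply]
  have h1 := (h a).resolve_left ha
  have h3 : ρ (σ a) = a := ((h _).resolve_left fun e => ha (h1.trans (ρ.injective (e.trans h1.symm)))).trans (ss a)
  refine ⟨h1, h3, fun x => ?_⟩
  rw [mul_apply]
  by_cases k1 : x = a
  · rw [k1, h1, swap_apply_right]; exact Or.inl rfl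
  by_cases k2 : x = σ a
  · rw [k2, h3, swap_apply_left]; exact Or.inl rfl
  rw [swap_apply_of_ne_of_ne (fun e => k2 (ρ.injective (e.trans h3.symm))) fun e => k1 (ρ.injective (e.trans h1.symm))]
  exact h x

theorem mem_der (h2 : σ * σ = 1) (h6 : 6 ≤ Fintype.card α) (n : ℕ) : ∀ ρ : Perm α, ρ.support.card ≤ n →
    (∀ x, ρ x = x ∨ ρ x = σ x) → sign ρ = 1 → ρ ∈ ⁅EC σ, EC σ⁆ := by
  induction n using Nat.strong_induction_on with
  | _ n ih =>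
  intro ρ hn h hs
  by_cases h1 : ρ = 1
  · exact h1 ▸ one_mem _
  obtain ⟨a, ha⟩ : ∃ a, ρ a ≠ a := by_contra fun h => h1 (Equiv.ext fun x => by_contra fun e => h ⟨x, e⟩)
  obtain ⟨k1, k2, k3⟩ := step h2 h ha
  have a1 : σ a ≠ a := k1 ▸ ha
  obtain ⟨c, hc⟩ : ∃ c, (swap a (σ a) * ρ) c ≠ c := by_contra fun h => by
    have : swap a (σ a) * ρ = 1 := Equiv.ext fun x => by_contra fun e => h ⟨x, e⟩
    have := congrArg sign this
    rw [Perm.sign_mul, hs, sign_swap a1.symm, Perm.sign_one] at this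
    exact absurd this (by decide)
  obtain ⟨l1, -, l3⟩ := step h2 k3 hc
  have c1 : σ c ≠ c := l1 ▸ hc
  have m1 := card_support_swap_mul ha
  have m2 := card_support_swap_mul hc
  rw [k1] at m1
  rw [l1] at m2
  have := ih _ (by omega) _ le_rfl l3 (by simp [sign_swap a1.symm, sign_swap c1.symm, hs])
  rw [← mul_assoc] at this
  exact (mul_mem_cancel_left (block h2 h6 a1 c1 (fun e => hc (by rw [e, mul_apply, k1, swap_apply_right]))
    fun e => hc (by rw [e, mul_apply, k2, swap_apply_left]))).1 this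

end

theorem a4 : (∀ x : alternatingGroup (Fin 4), x ^ 4 = 1 → x * x = 1) ∧
    (∀ x y : alternatingGroup (Fin 4), x * x = 1 → y * y = 1 → x ≠ 1 → y ≠ 1 → ∃ g, g * x * g⁻¹ = y) ∧
    (∀ x : alternatingGroup (Fin 4), x ≠ 1 → ∃ g, g * x * g⁻¹ * x⁻¹ ≠ 1 ∧ (g * x * g⁻¹ * x⁻¹) * (g * x * g⁻¹ * x⁻¹) = 1) := by
  refine ⟨?_, ?_, ?_⟩ <;> decide +kernel

universe u
variable {G : Type u} [Group G] [Finite G] {J : G} {T : Subgroup G} {m : ℕ}

theorem card_syl' {S X : Subgroup G} (hS : Syl 2 S X) {k n : ℕ} (h : ♯X = 2 ^ k * n) (hn : Odd n) : ♯S = 2 ^ k := by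
  obtain ⟨P, rfl⟩ := hS.exists_sylow Nat.prime_two
  exact (card_map_of_injective X.subtype_injective).trans
    (CA.H28Simp.card_sylow_of h (Nat.two_dvd_ne_zero.2 (Nat.odd_iff.1 hn)) P)

theorem idx2 (hJ : J * J = 1) (h1 : T ≤ 𝓒₁(J)) (h3 : J ∉ T) (h4 : zpowers J ⊔ T = 𝓒₁(J)) {K : Subgroup G}
    (k1 : J ∈ K) (k2 : K ≤ 𝓒₁(J)) : T.relIndex K = 2 :=
  relIndex_eq_two_iff_exists_notMem_and'.2 ⟨J, k1, h3, fun b hb => by
    obtain ⟨j, hj, t, ht, rfl⟩ := (mem_sup_norm (norm_of_cent (cent_symm ((cent_zpowers J).symm ▸ h1)))).1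
      (h4.ge (k2 hb))
    rcases (mem_zp hJ).1 hj with rfl | rfl
    · exact Or.inr (by rwa [one_mul])
    · exact Or.inl (by rwa [← mul_assoc, hJ, one_mul])⟩

theorem four_case (hns : ¬ Group.IsSolvable G) (h2 : ∀ N : Subgroup G, N.index ≠ 2) (hJ : orderOf J = 2)
    (P : Sylow 2 G) (hP : J ∈ (P : Subgroup G)) (hc : (P : Subgroup G) ≤ 𝓒₁(J))
    (e : T ≃* alternatingGroup (Fin 4)) (h1 : T ≤ 𝓒₁(J)) (h3 : J ∉ T) (h4 : zpowers J ⊔ T = 𝓒₁(J)) :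
    ∃ (F : Type) (_ : Field F) (_ : Fintype F), Fintype.card F = 8 ∧
      Nonempty (G ≃* MulAut (Matrix.ProjectiveSpecialLinearGroup (Fin 2) F)) := by
  have JJ := sq_of_ord hJ
  have hS : Syl 2 (P : Subgroup G) ⊤ := syl_top Nat.prime_two P
  have iP := idx2 JJ h1 h3 h4 hP hc
  have iC := idx2 JJ h1 h3 h4 (mem_cent1_self J) le_rfl
  have cT : ♯T = 12 := by rw [Nat.card_congr e.toEquiv, nat_card_alternatingGroup]; simp [Nat.factorial]
  have cC : ♯𝓒₁(J) = 24 := by rw [← card_mul_relIndex h1, cT, iC]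
  have c8 : ♯(P : Subgroup G) = 8 := card_syl' (hS.of_le hc le_top) (k := 3) (n := 3) cC (by decide)
  have c4 : ♯(T ⊓ P : Subgroup G) = 4 := by
    have := card_mul_relIndex (inf_le_right : T ⊓ (P : Subgroup G) ≤ P)
    rw [inf_relIndex_right, iP, c8] at this
    omega
  have sT : ∀ x ∈ T ⊓ P, x * x = 1 := fun x hx => by
    have := a4.1 (e ⟨x, hx.1⟩) (by
      rw [← map_pow, e.map_eq_one_iff]
      exact Subtype.ext (orderOf_dvd_iff_pow_eq_one.1 (c4 ▸ orderOf_dvd_card_of_mem hx)))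
    rw [← map_mul, e.map_eq_one_iff] at this
    exact congrArg Subtype.val this
  have sq : ∀ x ∈ (P : Subgroup G), x * x = 1 := fun x hx => by
    by_cases h : x ∈ T
    · exact sT x ⟨h, hx⟩
    have := sT _ ⟨CA.Two.mul_mem_of_relIndex_two iP hP hx h3 h, mul_mem hP hx⟩
    rwa [mul_assoc, ← mul_assoc x, mem_cent1.1 (hc hx), mul_assoc, ← mul_assoc, JJ, one_mul] at this
  have cj : ∀ a : G, orderOf a = 2 → ∃ g, g * J * g⁻¹ = a := fun a a2 => by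
    obtain ⟨g, -, hg⟩ := CA.Trf.exists_conj_mem_of_index_two h2 P iP (u := J) (hJ ▸ pow_orderOf_eq_one J)
    obtain ⟨h, -, hh⟩ := CA.Trf.exists_conj_mem_of_index_two h2 P iP (u := a) (a2 ▸ pow_orderOf_eq_one a)
    have k : ∀ x (hx : x ∈ T), orderOf x = 2 → e ⟨x, hx⟩ * e ⟨x, hx⟩ = 1 ∧ e ⟨x, hx⟩ ≠ 1 := fun x hx h =>
      ord2.1 (by rw [e.orderOf_eq, ← h]; exact (orderOf_coe _).symm)
    have k1 := k _ hg (by rw [ord_conj, hJ])
    have k2 := k _ hh (by rw [ord_conj, a2])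
    obtain ⟨n, hn⟩ := a4.2.1 _ _ k1.1 k2.1 k1.2 k2.2
    obtain ⟨n, rfl⟩ := e.surjective n
    rw [← map_mul, ← map_inv, ← map_mul, e.apply_eq_iff_eq] at hn
    have hn' : n * (g * J * g⁻¹) * (n : G)⁻¹ = h * a * h⁻¹ := congrArg Subtype.val hn
    exact ⟨h⁻¹ * n * g, by
      rw [show h⁻¹ * n * g * J * (h⁻¹ * n * g)⁻¹ = h⁻¹ * (n * (g * J * g⁻¹) * (n : G)⁻¹) * h by group, hn']; group⟩
  have hC : ∀ a : G, orderOf a = 2 → Group.IsSolvable 𝓒₁(a) := fun a a2 => by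
    obtain ⟨g, rfl⟩ := cj a a2
    exact cj_cent1 g J ▸ isSolvable_cj g (CChar.CharBurn.isSolvable_of_card_eq Nat.prime_two Nat.prime_three
      (a := 3) (b := 1) cC)
  have hO : 𝓞₂'((⊤ : Subgroup G)) = ⊥ := by
    have hn : ∀ g, ∀ w ∈ 𝓞₂'((⊤ : Subgroup G)), g * w * g⁻¹ ∈ 𝓞₂'((⊤ : Subgroup G)) := fun g w hw =>
      conj_mem_of_mem_norm (le_norm_core _ _ (mem_top g)) hw
    have k1 : ∀ w ∈ 𝓞₂'((⊤ : Subgroup G)), w ∈ T → w = 1 := fun w hw ht => by_contra fun w1 => by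
      obtain ⟨g, g1, g2⟩ := a4.2.2 (e ⟨w, ht⟩) fun h => w1 (congrArg Subtype.val (e.map_eq_one_iff.1 h))
      obtain ⟨g, rfl⟩ := e.surjective g
      simp only [← map_mul, ← map_inv, e.map_eq_one_iff, Ne] at g1 g2
      exact g1 (Subtype.ext ((od_core _).eq_one (mul_mem (hn g w hw) (inv_mem hw)) (congrArg Subtype.val g2)))
    refine le_bot_iff.1 (CA.Gold.od_le_of_cent (od_core _) sq (by omega) (le_top.trans (le_norm_core _ _))
      fun u hu u1 w hw => ?_)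
    obtain ⟨g, rfl⟩ := cj u (ord_two (sq u hu) u1)
    have k2 := hn g⁻¹ w hw.1
    have k3 : g⁻¹ * w * g⁻¹⁻¹ ∈ 𝓒₁(J) := mem_cent1.2 (by
      calc g⁻¹ * w * g⁻¹⁻¹ * J = g⁻¹ * (w * (g * J * g⁻¹)) * g := by group
        _ = _ := by rw [mem_cent1.1 hw.2]; group)
    have k4 := (od_core _).eq_one k2 (k1 _ (mul_mem k2 k2)
      (mul_self_mem_of_index_two iC (⟨_, k3⟩ : 𝓒₁(J))))
    exact mem_bot.2 (by_contra fun h => CA.Gold.conj_ne_one h _ k4)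
  have hA := CA.Wa.ab2_of_syl hS (CA.Gold.comm_of_sq sq)
  obtain ⟨N, n1, n2, n3, n4⟩ := CA.Wa.red hA hO hC hns
  have PN : (P : Subgroup G) ≤ N := fun x hx => by
    rcases eq_or_ne x 1 with rfl | x1
    · exact one_mem _
    obtain ⟨S, hS⟩ := syl_exists Nat.prime_two (⊤ : Subgroup N)
    obtain ⟨a, -, a2⟩ := CA.Wa.exists_inv' n3 hS ((hA.of_le le_top).top.syl hS)
    obtain ⟨g, hg⟩ := cj a ((orderOf_coe a).trans a2)
    obtain ⟨h, rfl⟩ := cj x (ord_two (sq x hx) x1)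
    have := n1.conj_mem _ a.2 (h * g⁻¹)
    rwa [← hg, show h * g⁻¹ * (g * J * g⁻¹) * (h * g⁻¹)⁻¹ = h * J * h⁻¹ by group] at this
  obtain ⟨S, hS'⟩ := syl_exists Nat.prime_two (⊤ : Subgroup N)
  have c8' : ♯S = 8 := CA.Wa.card_syl hS' (k := 3) (by rw [← card_mul_relIndex PN, c8]; rfl)
    (CA.Wa.odd_idx (hS.of_le PN le_top) le_rfl)
  have l2 := (CA.Wa.simple_solv n3 hS' ((hA.of_le le_top).top.syl hS') CA.Wa.hyps
    (CA.Wa.solv_sub hC N)).resolve_right (by omega)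
  obtain ⟨cN, F, _, _, hF, ⟨f⟩⟩ := CA.Wa.L2e.eight l2 hS' c8'
  have i3 : N.relIndex 𝓒₁(J) = 3 := by
    have k1 := card_mul_relIndex (inf_le_right : N ⊓ 𝓒₁(J) ≤ _)
    obtain ⟨k, hk⟩ := card_dvd (le_inf PN hc)
    rw [inf_relIndex_right, hk, c8, cC, mul_assoc] at k1
    refine ((Nat.dvd_prime Nat.prime_three).1 ⟨k, by linarith⟩).resolve_left fun h => ?_
    have k2 := relIndex_eq_one.1 h
    have k3 := CA.Ca.l2e_comm l2 (x := ⟨J, PN hP⟩) fun h => ne_one_of_ord hJ (congrArg Subtype.val h)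
    have k4 : ∀ x y : alternatingGroup (Fin 4), x * y = y * x := fun x y => by
      obtain ⟨x, rfl⟩ := e.surjective x
      obtain ⟨y, rfl⟩ := e.surjective y
      rw [← map_mul, ← map_mul, e.apply_eq_iff_eq]
      exact Subtype.ext (congrArg N.subtype (CA.Wa.mul_comm_of k3 (x := ⟨x, k2 (h1 x.2)⟩) (y := ⟨y, k2 (h1 y.2)⟩)
        (mem_cent1.2 (Subtype.ext (mem_cent1.1 (h1 x.2)))) (mem_cent1.2 (Subtype.ext (mem_cent1.1 (h1 y.2))))))
    revert k4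
    decide +kernel
  have hi : Function.Injective (MulAut.conjNormal (H := N)) := (injective_iff_map_eq_one _).2 fun g hg =>
    mem_bot.1 (n4.le (mem_cent.2 fun x hx => (mul_inv_eq_iff_eq_mul.1
      ((MulAut.conjNormal_apply g ⟨x, hx⟩).symm.trans (by rw [hg]; rfl) : g * x * g⁻¹ = x)).symm))
  have cA : Nat.card (MulAut N) = 1512 := by
    rw [Nat.card_congr (MulAut.congr f).toEquiv, Cfsg.Agent.S0813.result 2 3 (by omega) hF 2 le_rfl (by omega),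
      CA.SLnCard.card_PGL2, Nat.card_eq_fintype_card, hF]
    rfl
  refine ⟨F, _, _, hF, ⟨(MulEquiv.ofBijective _ (hi.bijective_of_nat_card_le ?_)).trans (MulAut.congr f)⟩⟩
  have k1 := Nat.le_of_dvd (Nat.pos_of_ne_zero index_ne_zero_of_finite) (i3 ▸ relIndex_dvd_index_of_normal N 𝓒₁(J))
  rw [cA, ← N.card_mul_index, cN]
  omega

theorem big_case (h2 : ∀ N : Subgroup G, N.index ≠ 2) (hJ : orderOf J = 2)
    (P : Sylow 2 G) (hP : J ∈ (P : Subgroup G)) (hc : (P : Subgroup G) ≤ 𝓒₁(J))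
    (e : T ≃* alternatingGroup (Fin m)) (h1 : T ≤ 𝓒₁(J)) (h3 : J ∉ T) (h4 : zpowers J ⊔ T = 𝓒₁(J)) :
    m = 4 ∨ m = 5 := by
  have JJ := sq_of_ord hJ
  have iC := idx2 JJ h1 h3 h4 (mem_cent1_self J) le_rfl
  obtain ⟨g, -, hg⟩ := CA.Trf.exists_conj_mem_of_index_two h2 P (idx2 JJ h1 h3 h4 hP hc) (u := J)
    (hJ ▸ pow_orderOf_eq_one J)
  obtain ⟨k1, k2⟩ : e ⟨_, hg⟩ * e ⟨_, hg⟩ = 1 ∧ e ⟨_, hg⟩ ≠ 1 :=
    ord2.1 (by rw [e.orderOf_eq, ← hJ, ← ord_conj g J]; exact (orderOf_coe _).symm)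
  by_contra! hm
  rcases (by omega : m ≤ 3 ∨ 6 ≤ m) with h | h
  · generalize e ⟨_, hg⟩ = x at k1 k2
    revert x
    interval_cases m <;> decide +kernel
  have k3 := mem_der (σ := (e ⟨_, hg⟩).1) (congrArg Subtype.val k1) (by simpa using h) _ _ le_rfl
    (fun _ => Or.inr rfl) (e ⟨_, hg⟩).2
  let ψ := (MulAut.conj g⁻¹).toMonoidHom.comp (T.subtype.comp e.symm.toMonoidHom)
  have k4 : ⁅EC (e ⟨_, hg⟩).1, EC (e ⟨_, hg⟩).1⁆ ≤ (T.comap ψ).map (alternatingGroup (Fin m)).subtype :=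
    commutator_le.2 fun x hx y hy => ⟨⁅(⟨x, hx.1⟩ : alternatingGroup (Fin m)), (⟨y, hy.1⟩ : alternatingGroup (Fin m))⁆, by
      have k : ∀ x (hx : x ∈ EC (e ⟨_, hg⟩).1), ψ ⟨x, hx.1⟩ ∈ 𝓒₁(J) := fun x hx => mem_cent1.2 (by
        have := congrArg ψ (Subtype.ext (mem_cent1.1 hx.2) : ⟨x, hx.1⟩ * e ⟨_, hg⟩ = e ⟨_, hg⟩ * ⟨x, hx.1⟩)
        rwa [map_mul, map_mul, show ψ (e ⟨_, hg⟩) = J by simp [ψ, mul_assoc]] at this)
      have := (mul_mem_iff_of_index_two iC (a := ⟨_, k x hx⟩ * ⟨_, k y hy⟩ * ⟨_, k x hx⟩⁻¹)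
        (b := ⟨_, k y hy⟩⁻¹)).2 (by simp only [mul_mem_iff_of_index_two iC, inv_mem_iff]; tauto)
      exact mem_comap.2 (map_commutatorElement ψ _ _ ▸ this), rfl⟩
  obtain ⟨x, hx, h⟩ := k4 k3
  rw [Subtype.ext h] at hx
  exact h3 (by simpa [ψ, mul_assoc] using hx)

end CA.H9K
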