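import Cfsg.Agent.Lib.Comp.CTodd
/-! Relators for the generators `t, r, x, u, s, v, w` of the first Janko group. -/
set_option autoImplicit false
namespace CA.J1Rel
open CA.CWord
/-- the relators not involving `r, s` -/
def Rc : List Word := [[0,0], [10,10], [12,12], [6,6], [4,4,4], [4,0,5,0], [0,10,0,10], [10,4,10,5,10,4,10,5], [6,4,6,4], [4,10,4,10,4,10], [6,10,6,10,6,10], [0,6,0,6], [12,4,10,5,6,10,5], [12,6,12,6], [12,0,12,0]]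
/-- the common relators -/
def base : List Word := [[0,0], [10,10], [12,12], [6,6], [8,8], [2,2,2,2,2,2,2], [4,4,4], [4,2,5,3,3], [4,0,5,0], [2,0,3,10], [0,10,0,10], [10,4,10,5,10,4,10,5], [2,2,2,0,3,3,3,0,10], [4,10,5,2,10,3], [6,4,6,4], [4,10,4,10,4,10], [6,10,6,10,6,10], [0,6,0,6], [12,4,10,5,6,10,5], [12,6,12,6], [12,0,12,0], [8,2,8,2], [4,8,5,8], [0,8,0,8,0,8,0,8,0,8]]
def R0 : List Word := [[0,0], [10,10], [12,12], [6,6], [8,8], [2,2,2,2,2,2,2], [4,4,4], [4,2,5,3,3], [4,0,5,0], [2,0,3,10], [0,10,0,10], [10,4,10,5,10,4,10,5], [2,2,2,0,3,3,3,0,10], [4,10,5,2,10,3], [6,4,6,4], [4,10,4,10,4,10], [6,10,6,10,6,10], [0,6,0,6], [12,4,10,5,6,10,5], [12,6,12,6], [12,0,12,0], [8,2,8,2], [4,8,5,8], [0,8,0,8,0,8,0,8,0,8], [6,8,6,8], [12,8,12,8,12,8]]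
def R1 : List Word := [[0,0], [10,10], [12,12], [6,6], [8,8], [2,2,2,2,2,2,2], [4,4,4], [4,2,5,3,3], [4,0,5,0], [2,0,3,10], [0,10,0,10], [10,4,10,5,10,4,10,5], [2,2,2,0,3,3,3,0,10], [4,10,5,2,10,3], [6,4,6,4], [4,10,4,10,4,10], [6,10,6,10,6,10], [0,6,0,6], [12,4,10,5,6,10,5], [12,6,12,6], [12,0,12,0], [8,2,8,2], [4,8,5,8], [0,8,0,8,0,8,0,8,0,8], [6,8,6,8], [12,8,12,8,12,8,6]]
def R2 : List Word := [[0,0], [10,10], [12,12], [6,6], [8,8], [2,2,2,2,2,2,2], [4,4,4], [4,2,5,3,3], [4,0,5,0], [2,0,3,10], [0,10,0,10], [10,4,10,5,10,4,10,5], [2,2,2,0,3,3,3,0,10], [4,10,5,2,10,3], [6,4,6,4], [4,10,4,10,4,10], [6,10,6,10,6,10], [0,6,0,6], [12,4,10,5,6,10,5], [12,6,12,6], [12,0,12,0], [8,2,8,2], [4,8,5,8], [0,8,0,8,0,8,0,8,0,8], [6,8,6,8], [0,12,8,0,12,8,0,12,8]]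
def R3 : List Word := [[0,0], [10,10], [12,12], [6,6], [8,8], [2,2,2,2,2,2,2], [4,4,4], [4,2,5,3,3], [4,0,5,0], [2,0,3,10], [0,10,0,10], [10,4,10,5,10,4,10,5], [2,2,2,0,3,3,3,0,10], [4,10,5,2,10,3], [6,4,6,4], [4,10,4,10,4,10], [6,10,6,10,6,10], [0,6,0,6], [12,4,10,5,6,10,5], [12,6,12,6], [12,0,12,0], [8,2,8,2], [4,8,5,8], [0,8,0,8,0,8,0,8,0,8], [6,8,6,8], [0,12,8,0,12,8,0,12,8,6]]
def R4 : List Word := [[0,0], [10,10], [12,12], [6,6], [8,8], [2,2,2,2,2,2,2], [4,4,4], [4,2,5,3,3], [4,0,5,0], [2,0,3,10], [0,10,0,10], [10,4,10,5,10,4,10,5], [2,2,2,0,3,3,3,0,10], [4,10,5,2,10,3], [6,4,6,4], [4,10,4,10,4,10], [6,10,6,10,6,10], [0,6,0,6], [12,4,10,5,6,10,5], [12,6,12,6], [12,0,12,0], [8,2,8,2], [4,8,5,8], [0,8,0,8,0,8,0,8,0,8], [0,6,8,0,6,8], [12,8,12,8,12,8]]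
def R5 : List Word := [[0,0], [10,10], [12,12], [6,6], [8,8], [2,2,2,2,2,2,2], [4,4,4], [4,2,5,3,3], [4,0,5,0], [2,0,3,10], [0,10,0,10], [10,4,10,5,10,4,10,5], [2,2,2,0,3,3,3,0,10], [4,10,5,2,10,3], [6,4,6,4], [4,10,4,10,4,10], [6,10,6,10,6,10], [0,6,0,6], [12,4,10,5,6,10,5], [12,6,12,6], [12,0,12,0], [8,2,8,2], [4,8,5,8], [0,8,0,8,0,8,0,8,0,8], [0,6,8,0,6,8], [12,8,12,8,12,8,0,6]]
def R6 : List Word := [[0,0], [10,10], [12,12], [6,6], [8,8], [2,2,2,2,2,2,2], [4,4,4], [4,2,5,3,3], [4,0,5,0], [2,0,3,10], [0,10,0,10], [10,4,10,5,10,4,10,5], [2,2,2,0,3,3,3,0,10], [4,10,5,2,10,3], [6,4,6,4], [4,10,4,10,4,10], [6,10,6,10,6,10], [0,6,0,6], [12,4,10,5,6,10,5], [12,6,12,6], [12,0,12,0], [8,2,8,2], [4,8,5,8], [0,8,0,8,0,8,0,8,0,8], [0,6,8,0,6,8], [0,12,8,0,12,8,0,12,8]]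
def R7 : List Word := [[0,0], [10,10], [12,12], [6,6], [8,8], [2,2,2,2,2,2,2], [4,4,4], [4,2,5,3,3], [4,0,5,0], [2,0,3,10], [0,10,0,10], [10,4,10,5,10,4,10,5], [2,2,2,0,3,3,3,0,10], [4,10,5,2,10,3], [6,4,6,4], [4,10,4,10,4,10], [6,10,6,10,6,10], [0,6,0,6], [12,4,10,5,6,10,5], [12,6,12,6], [12,0,12,0], [8,2,8,2], [4,8,5,8], [0,8,0,8,0,8,0,8,0,8], [0,6,8,0,6,8], [0,12,8,0,12,8,0,12,8,0,6]]
def gens : List Word := [[0], [2], [4], [6], [8], [10], [12]]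
def subs : List Word := [[0], [4], [6], [10], [12]]
end CA.J1Rel
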